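import Mathlib

/-!
# Embedding a finitely filtered object into a filtered injective object
-/

set_option autoImplicit false
set_option backward.isDefEq.respectTransparency false

universe v u

open CategoryTheory CategoryTheory.Limits

noncomputable section

attribute [local instance] CategoryTheory.Abelian.hasFiniteBiproducts

namespace Groth.Agent.FilResLib

variable {C : Type u} [Category.{v} C] [Abelian C] [EnoughInjectives C]

theorem exists_zero_preserving_presentation (Q : C) :
    ∃ (P : C) (e : Q ⟶ P), Injective P ∧ Mono e ∧ (IsZero Q → IsZero P) := by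
  by_cases h : IsZero Q
  · haveI : Injective Q := ⟨fun g f _ => ⟨0, h.eq_of_tgt _ _⟩⟩
    exact ⟨Q, 𝟙 Q, inferInstance, inferInstance, fun _ => h⟩
  · exact ⟨Injective.under Q, Injective.ι Q, inferInstance, inferInstance, fun h' => absurd h' h⟩

variable (b : ℤ) (m : ℕ)

/-- A finitely filtered object with prescribed bounds. -/
structure FSt where
  Z : C
  F : ℤ → Subobject Z
  anti : Antitone F
  hb : F b = ⊤
  ht : F (b + m) = ⊥

variable {b m} (s : FSt (C := C) b m)

/-- The graded pieces. -/
abbrev Qk (k : Fin m) : C :=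
  cokernel ((s.F (b + (k + 1 : ℕ))).ofLE (s.F (b + (k : ℕ))) (s.anti (by omega)))

/-- The injective objects. -/
def E (k : Fin m) : C := (exists_zero_preserving_presentation (Qk s k)).choose

/-- The embeddings of the graded pieces. -/
def eQ (k : Fin m) : Qk s k ⟶ E s k := (exists_zero_preserving_presentation (Qk s k)).choose_spec.choose

instance injective_E (k : Fin m) : Injective (E s k) :=
  (exists_zero_preserving_presentation (Qk s k)).choose_spec.choose_spec.1

instance mono_eQ (k : Fin m) : Mono (eQ s k) :=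
  (exists_zero_preserving_presentation (Qk s k)).choose_spec.choose_spec.2.1

theorem isZero_E (k : Fin m) (h : IsZero (Qk s k)) : IsZero (E s k) :=
  (exists_zero_preserving_presentation (Qk s k)).choose_spec.choose_spec.2.2 h

/-- The components of the embedding. -/
def ext (k : Fin m) : s.Z ⟶ E s k :=
  Injective.factorThru (cokernel.π _ ≫ eQ s k) (s.F (b + (k : ℕ))).arrow

theorem arrow_ext (k : Fin m) : (s.F (b + (k : ℕ))).arrow ≫ ext s k = cokernel.π _ ≫ eQ s k :=
  Injective.comp_factorThru _ _

/-- The injective object. -/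
abbrev I : C := ⨁ fun k : Fin m => E s k

/-- The embedding. -/
abbrev φ : s.Z ⟶ I s := biproduct.lift fun k => ext s k

theorem ext_eq_zero {W : C} (x : W ⟶ s.Z) {i : ℤ} (h : (s.F i).Factors x) (k : Fin m) (hk : b + (k : ℕ) < i) :
    x ≫ ext s k = 0 := by
  have h1 : (s.F (b + ((k : ℕ) + 1 : ℕ))).Factors x :=
    Subobject.factors_of_le x (s.anti (by omega)) h
  rw [← (s.F (b + ((k : ℕ) + 1 : ℕ))).factorThru_arrow x h1,
    ← Subobject.ofLE_arrow (s.anti (by omega) : s.F (b + ((k : ℕ) + 1 : ℕ)) ≤ s.F (b + (k : ℕ))),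
    Category.assoc, Category.assoc, arrow_ext, ← Category.assoc ((s.F _).ofLE _ _), cokernel.condition, zero_comp,
    comp_zero]

theorem factors_of_ext_eq_zero {W : C} (x : W ⟶ s.Z) :
    ∀ j : ℕ, j ≤ m → (∀ k : Fin m, (k : ℕ) < j → x ≫ ext s k = 0) → (s.F (b + j)).Factors x
  | 0, _, _ => by
    rw [show b + ((0 : ℕ) : ℤ) = b by simp, s.hb]
    exact Subobject.top_factors x
  | j + 1, hj, h => by
    have h1 := factors_of_ext_eq_zero x j (by omega) fun k hk => h k (by omega)
    have hle : s.F (b + ((j + 1 : ℕ) : ℤ)) ≤ s.F (b + (j : ℤ)) := s.anti (by omega)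
    let y := (s.F (b + (j : ℤ))).factorThru x h1
    have hy : y ≫ cokernel.π ((s.F (b + ((j + 1 : ℕ) : ℤ))).ofLE _ hle) = 0 := by
      rw [← cancel_mono (eQ s ⟨j, hj⟩), Category.assoc, zero_comp]
      refine (congrArg (y ≫ ·) (arrow_ext s ⟨j, hj⟩)).symm.trans ?_
      rw [← Category.assoc, Subobject.factorThru_arrow]
      exact h ⟨j, hj⟩ (by simp)
    let z : W ⟶ (s.F (b + ((j + 1 : ℕ) : ℤ)) : C) :=
      (Abelian.monoIsKernelOfCokernel _ (cokernelIsCokernel ((s.F (b + ((j + 1 : ℕ) : ℤ))).ofLE _ hle))).lift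
        (KernelFork.ofι y hy)
    have hz : z ≫ (s.F (b + ((j + 1 : ℕ) : ℤ))).ofLE _ hle = y :=
      (Abelian.monoIsKernelOfCokernel _ (cokernelIsCokernel ((s.F (b + ((j + 1 : ℕ) : ℤ))).ofLE _ hle))).fac
        (KernelFork.ofι y hy) WalkingParallelPair.zero
    have e : x = z ≫ (s.F (b + ((j + 1 : ℕ) : ℤ))).arrow := by
      rw [← Subobject.ofLE_arrow hle, ← Category.assoc, hz, Subobject.factorThru_arrow]
    rw [e]
    exact Subobject.factors_comp_arrow z

theorem factors_iff {W : C} (x : W ⟶ s.Z) (i : ℤ) :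
    (s.F i).Factors x ↔ ∀ k : Fin m, b + (k : ℕ) < i → x ≫ ext s k = 0 := by
  refine ⟨fun h k hk => ext_eq_zero s x h k hk, fun h => ?_⟩
  rcases le_or_gt i b with hi | hi
  · exact Subobject.factors_of_le x (s.anti hi) (by rw [s.hb]; exact Subobject.top_factors x)
  rcases le_or_gt i (b + m) with hi' | hi'
  · obtain ⟨j, rfl⟩ : ∃ j : ℕ, i = b + j := ⟨(i - b).toNat, by omega⟩
    exact factors_of_ext_eq_zero s x j (by omega) fun k hk => h k (by omega)
  · have hx := factors_of_ext_eq_zero s x m le_rfl fun k _ => h k (by omega)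
    rw [s.ht, Subobject.bot_factors_iff_zero] at hx
    rw [hx]
    exact Subobject.factors_zero

instance mono_φ : Mono (φ s) := by
  refine Preadditive.mono_of_cancel_zero _ fun {W} x hx => ?_
  have := (factors_iff s x (b + m)).2 fun k _ => by
    rw [← biproduct.lift_π (fun k => ext s k) k, ← Category.assoc, hx, zero_comp]
  rw [s.ht, Subobject.bot_factors_iff_zero] at this
  exact this

/-- The idempotent killing the late components. -/
def p (i : ℤ) : I s ⟶ I s := biproduct.map fun k => if b + (k : ℕ) < i then 𝟙 (E s k) else 0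

theorem comp_p {W : C} (x : W ⟶ I s) (i : ℤ) :
    x ≫ p s i = 0 ↔ ∀ k : Fin m, b + (k : ℕ) < i → x ≫ biproduct.π (fun k => E s k) k = 0 := by
  constructor
  · intro h k hk
    have := congrArg (· ≫ biproduct.π (fun k => E s k) k) h
    simpa [p, hk] using this
  · intro h
    refine biproduct.hom_ext _ _ fun k => ?_
    by_cases hk : b + (k : ℕ) < i
    · simp [p, hk, h k hk]
    · simp [p, hk]

/-- The filtration of the injective object. -/
def G (i : ℤ) : Subobject (I s) := kernelSubobject (p s i)

theorem G_factors {W : C} (x : W ⟶ I s) (i : ℤ) :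
    (G s i).Factors x ↔ ∀ k : Fin m, b + (k : ℕ) < i → x ≫ biproduct.π (fun k => E s k) k = 0 :=
  (kernelSubobject_factors_iff (p s i) x).trans (comp_p s x i)

theorem antitone_G : Antitone (G s) := fun i i' h => by
  refine Subobject.le_of_comm ((G s i).factorThru (G s i').arrow ((G_factors s _ i).2 fun k hk => ?_))
    (Subobject.factorThru_arrow _ _ _)
  exact (G_factors s _ i').1 (Subobject.factors_self _) k (hk.trans_le h)

instance injective_G (i : ℤ) : Injective (G s i : C) := by
  have h : (G s i).Factors (𝟙 (I s) - p s i) := (G_factors s _ i).2 fun k hk => by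
    simp [p, hk, Preadditive.sub_comp]
  have hr : (G s i).arrow ≫ (G s i).factorThru _ h = 𝟙 _ := by
    rw [← cancel_mono (G s i).arrow, Category.assoc, Subobject.factorThru_arrow, Preadditive.comp_sub,
      Category.comp_id, Category.id_comp,
      (kernelSubobject_factors_iff (p s i) _).1 (Subobject.factors_self (G s i)), sub_zero]
  refine ⟨fun g f _ => ⟨Injective.factorThru (g ≫ (G s i).arrow) f ≫ (G s i).factorThru _ h, ?_⟩⟩
  rw [← Category.assoc, Injective.comp_factorThru, Category.assoc, hr, Category.comp_id]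

theorem F_factors_φ (i : ℤ) : (G s i).Factors ((s.F i).arrow ≫ φ s) :=
  (G_factors s _ i).2 fun k hk => by
    rw [Category.assoc, biproduct.lift_π]
    exact ext_eq_zero s _ (Subobject.factors_self (s.F i)) k hk

/-- The embedding of a step. -/
def u (i : ℤ) : (s.F i : C) ⟶ (G s i : C) := (G s i).factorThru _ (F_factors_φ s i)

@[reassoc]
theorem u_arrow (i : ℤ) : u s i ≫ (G s i).arrow = (s.F i).arrow ≫ φ s := Subobject.factorThru_arrow _ _ _

theorem G_eq_top {i : ℤ} (h : s.F i = ⊤) : G s i = ⊤ := by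
  rw [← Subobject.isIso_arrow_iff_eq_top]
  have hf : (G s i).Factors (𝟙 (I s)) := (G_factors s _ i).2 fun k hk => by
    have hF : s.F (b + ((k : ℕ) + 1 : ℕ)) = ⊤ := top_le_iff.1 (h ▸ s.anti (by omega))
    have hz : IsZero (Qk s k) := by
      haveI : IsIso ((s.F (b + ((k : ℕ) + 1 : ℕ))).arrow) := (Subobject.isIso_arrow_iff_eq_top _).2 hF
      haveI : IsIso ((s.F (b + ((k : ℕ) + 1 : ℕ))).ofLE (s.F (b + (k : ℕ))) (s.anti (by omega)) ≫ (s.F (b + (k : ℕ))).arrow) := by
        rw [Subobject.ofLE_arrow]; infer_instance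
      haveI : Epi (s.F (b + (k : ℕ))).arrow := epi_of_epi ((s.F (b + ((k : ℕ) + 1 : ℕ))).ofLE _ (s.anti (by omega))) _
      haveI : IsIso (s.F (b + (k : ℕ))).arrow := isIso_of_mono_of_epi _
      haveI : IsIso ((s.F (b + ((k : ℕ) + 1 : ℕ))).ofLE (s.F (b + (k : ℕ))) (s.anti (by omega))) :=
        IsIso.of_isIso_comp_right _ (s.F (b + (k : ℕ))).arrow
      exact isZero_cokernel_of_epi _
    exact (isZero_E s k hz).eq_of_tgt _ _
  haveI : Epi (G s i).arrow := (SplitEpi.mk _ (Subobject.factorThru_arrow (G s i) _ hf)).epi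
  exact isIso_of_mono_of_epi _

theorem G_eq_bot {i : ℤ} (h : s.F i = ⊥) : G s i = ⊥ := by
  have h0 : (G s i).arrow = 0 := biproduct.hom_ext _ _ fun k => by
    by_cases hk : b + (k : ℕ) < i
    · rw [zero_comp]; exact (G_factors s _ i).1 (Subobject.factors_self _) k hk
    · have hF : s.F (b + (k : ℕ)) = ⊥ := le_bot_iff.1 (h ▸ s.anti (by omega))
      have hz : IsZero (Qk s k) := by
        have : IsZero (s.F (b + (k : ℕ)) : C) := by
          rw [hF]; exact (isZero_zero C).of_iso Subobject.botCoeIsoZero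
        exact IsZero.of_epi (cokernel.π _) this
      exact (isZero_E s k hz).eq_of_tgt _ _
  exact le_bot_iff.1 (Subobject.le_of_comm 0 (by rw [zero_comp, h0]))

theorem factors_iff_map {W : C} (x : W ⟶ s.Z) (i : ℤ) : (G s i).Factors (x ≫ φ s) ↔ (s.F i).Factors x := by
  rw [G_factors, factors_iff]
  simp only [Category.assoc, biproduct.lift_π]

/-- The next filtered object. -/
def next : FSt (C := C) b m where
  Z := cokernel (φ s)
  F i := imageSubobject ((G s i).arrow ≫ cokernel.π (φ s))
  anti i i' h := by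
    refine imageSubobject_le _ ((G s i').ofLE (G s i) (antitone_G s h) ≫ factorThruImageSubobject _) ?_
    rw [Category.assoc, imageSubobject_arrow_comp, Subobject.ofLE_arrow_assoc]
  hb := by
    haveI : IsIso (G s b).arrow := (Subobject.isIso_arrow_iff_eq_top _).2 (G_eq_top s s.hb)
    haveI : Epi (imageSubobject ((G s b).arrow ≫ cokernel.π (φ s))).arrow := by
      haveI : Epi (factorThruImageSubobject ((G s b).arrow ≫ cokernel.π (φ s)) ≫
          (imageSubobject ((G s b).arrow ≫ cokernel.π (φ s))).arrow) := by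
        rw [imageSubobject_arrow_comp]; infer_instance
      exact epi_of_epi (factorThruImageSubobject _) _
    haveI := isIso_of_mono_of_epi (imageSubobject ((G s b).arrow ≫ cokernel.π (φ s))).arrow
    exact (Subobject.isIso_arrow_iff_eq_top _).1 inferInstance
  ht := by
    refine le_bot_iff.1 (imageSubobject_le _ 0 ?_)
    have : (G s (b + m)).arrow = 0 := by rw [G_eq_bot s s.ht, Subobject.bot_arrow]
    rw [this, zero_comp, zero_comp]

theorem next_eq_top {i : ℤ} (h : s.F i = ⊤) : (next s).F i = ⊤ := by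
  haveI : IsIso (G s i).arrow := (Subobject.isIso_arrow_iff_eq_top _).2 (G_eq_top s h)
  haveI : Epi ((next s).F i).arrow := by
    haveI : Epi (factorThruImageSubobject ((G s i).arrow ≫ cokernel.π (φ s)) ≫
        (imageSubobject ((G s i).arrow ≫ cokernel.π (φ s))).arrow) := by
      rw [imageSubobject_arrow_comp]; infer_instance
    exact @epi_of_epi _ _ _ _ _ (factorThruImageSubobject ((G s i).arrow ≫ cokernel.π (φ s))) _ this
  haveI := isIso_of_mono_of_epi ((next s).F i).arrow
  exact (Subobject.isIso_arrow_iff_eq_top _).1 inferInstance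

theorem next_eq_bot {i : ℤ} (h : s.F i = ⊥) : (next s).F i = ⊥ := by
  refine le_bot_iff.1 (imageSubobject_le _ 0 ?_)
  have : (G s i).arrow = 0 := by rw [G_eq_bot s h, Subobject.bot_arrow]
  rw [this, zero_comp, zero_comp]

/-- The projection of a step. -/
def v (i : ℤ) : (G s i : C) ⟶ ((next s).F i : C) :=
  factorThruImageSubobject ((G s i).arrow ≫ cokernel.π (φ s))

@[reassoc]
theorem v_arrow (i : ℤ) : v s i ≫ ((next s).F i).arrow = (G s i).arrow ≫ cokernel.π (φ s) :=
  imageSubobject_arrow_comp _

theorem u_v (i : ℤ) : u s i ≫ v s i = 0 := by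
  rw [← cancel_mono ((next s).F i).arrow, Category.assoc, v_arrow, u_arrow_assoc, cokernel.condition, comp_zero,
    zero_comp]

theorem shortExact_u_v (i : ℤ) : (ShortComplex.mk (u s i) (v s i) (u_v s i)).ShortExact := by
  haveI : Mono (u s i) := by
    haveI : Mono (u s i ≫ (G s i).arrow) := by rw [u_arrow]; exact mono_comp _ _
    exact mono_of_mono _ (G s i).arrow
  haveI : Epi (v s i) := inferInstanceAs (Epi (factorThruImageSubobject ((G s i).arrow ≫ cokernel.π (φ s))))
  refine ShortComplex.ShortExact.mk' ?_ ‹_› ‹_›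
  rw [ShortComplex.exact_iff_exact_up_to_refinements]
  intro A x hx
  change x ≫ v s i = 0 at hx
  have h0 : (x ≫ (G s i).arrow) ≫ cokernel.π (φ s) = 0 := by
    rw [Category.assoc, ← v_arrow, ← Category.assoc, hx, zero_comp]
  let y : A ⟶ s.Z := (Abelian.monoIsKernelOfCokernel _ (cokernelIsCokernel (φ s))).lift (KernelFork.ofι _ h0)
  have hy : y ≫ φ s = x ≫ (G s i).arrow :=
    (Abelian.monoIsKernelOfCokernel _ (cokernelIsCokernel (φ s))).fac (KernelFork.ofι _ h0) WalkingParallelPair.zero
  have hF : (s.F i).Factors y := (factors_iff_map s y i).1 (by rw [hy]; exact Subobject.factors_comp_arrow x)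
  refine ⟨A, 𝟙 A, inferInstance, (s.F i).factorThru y hF, ?_⟩
  rw [Category.id_comp, ← cancel_mono (G s i).arrow, ← hy, Category.assoc, u_arrow, ← Category.assoc,
    Subobject.factorThru_arrow]

end Groth.Agent.FilResLib
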