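import Groth.Agent.FilResLib.Splice
import Groth.Agent.FilResLib.Step

/-!
# Filtered injective resolutions
-/

set_option autoImplicit false
set_option backward.isDefEq.respectTransparency false

universe v u

open CategoryTheory CategoryTheory.Limits

noncomputable section

attribute [local instance] CategoryTheory.Abelian.hasFiniteBiproducts

namespace Groth.Agent.FilResLib

variable {C : Type u} [Category.{v} C] [Abelian C] [EnoughInjectives C] {b : ℤ} {m : ℕ}
  (s : FSt (C := C) b m)

/-- The iterated filtered cokernels. -/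
def st : ℕ → FSt (C := C) b m
  | 0 => s
  | n + 1 => next (st n)

theorem st_eq_top {i : ℤ} (h : s.F i = ⊤) : ∀ n, (st s n).F i = ⊤
  | 0 => h
  | n + 1 => next_eq_top (st s n) (st_eq_top h n)

theorem st_eq_bot {i : ℤ} (h : s.F i = ⊥) : ∀ n, (st s n).F i = ⊥
  | 0 => h
  | n + 1 => next_eq_bot (st s n) (st_eq_bot h n)

/-- The resolving complex. -/
def cx : CochainComplex C ℕ :=
  splice (Z := fun n => (st s n).Z) (I := fun n => I (st s n)) (fun n => φ (st s n))
    (fun n => cokernel.π (φ (st s n))) (fun _ => cokernel.condition _)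

/-- The augmentation. -/
def cxι : (CochainComplex.single₀ C).obj s.Z ⟶ cx s :=
  spliceι (Z := fun n => (st s n).Z) (I := fun n => I (st s n)) (fun n => φ (st s n))
    (fun n => cokernel.π (φ (st s n))) (fun _ => cokernel.condition _)

theorem shortExact_φ (n : ℕ) :
    (ShortComplex.mk (φ (st s n)) (cokernel.π (φ (st s n))) (cokernel.condition _)).ShortExact :=
  ShortComplex.ShortExact.mk' (ShortComplex.exact_of_g_is_cokernel _ (cokernelIsCokernel _))
    (mono_φ _) inferInstance

theorem quasiIso_cxι : QuasiIso (cxι s) :=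
  quasiIso_spliceι _ _ _ (shortExact_φ s)

/-- The resolution. -/
def res : InjectiveResolution s.Z where
  cocomplex := cx s
  injective n := inferInstanceAs (Injective (I (st s n)))
  ι := cxι s
  quasiIso := quasiIso_cxι s

/-- The subcomplexes. -/
def sub (i : ℤ) : CochainComplex C ℕ :=
  splice (Z := fun n => ((st s n).F i : C)) (I := fun n => (G (st s n) i : C)) (fun n => u (st s n) i)
    (fun n => v (st s n) i) (fun n => u_v (st s n) i)

theorem cx_d (n : ℕ) : (cx s).d n (n + 1) = cokernel.π (φ (st s n)) ≫ φ (st s (n + 1)) :=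
  splice_d _ _ _ n

theorem sub_d (i : ℤ) (n : ℕ) : (sub s i).d n (n + 1) = v (st s n) i ≫ u (st s (n + 1)) i :=
  splice_d _ _ _ n

/-- The inclusion of the subcomplexes. -/
def incl (i : ℤ) : sub s i ⟶ cx s where
  f n := (G (st s n) i).arrow
  comm' := by
    rintro n _ rfl
    refine (congrArg ((G (st s n) i).arrow ≫ ·) (cx_d s n)).trans ?_
    refine Eq.trans ?_ (congrArg (· ≫ (G (st s (n + 1)) i).arrow) (sub_d s i n)).symm
    refine Eq.trans ?_ (Category.assoc _ _ _).symm
    refine Eq.trans ?_ (congrArg (v (st s n) i ≫ ·) (u_arrow (st s (n + 1)) i)).symm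
    exact (Category.assoc _ _ _).symm.trans
      ((congrArg (· ≫ φ (st s (n + 1))) (v_arrow (st s n) i).symm).trans (Category.assoc _ _ _))

instance mono_incl (i : ℤ) : Mono (incl s i) := by
  haveI : ∀ n, Mono ((incl s i).f n) := fun n => inferInstanceAs (Mono (G (st s n) i).arrow)
  exact HomologicalComplex.mono_of_mono_f _ inferInstance

/-- The inclusion between subcomplexes. -/
def subLE {i i' : ℤ} (h : i ≤ i') : sub s i' ⟶ sub s i where
  f n := (G (st s n) i').ofLE (G (st s n) i) (antitone_G _ h)
  comm' := by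
    rintro n _ rfl
    haveI : Mono ((incl s i).f (n + 1)) := inferInstanceAs (Mono (G (st s (n + 1)) i).arrow)
    refine (cancel_mono ((incl s i).f (n + 1))).1 ?_
    refine (Category.assoc _ _ _).trans ?_
    refine (congrArg ((G (st s n) i').ofLE (G (st s n) i) (antitone_G _ h) ≫ ·)
      ((incl s i).comm n (n + 1)).symm).trans ?_
    refine ((Category.assoc _ _ _).symm.trans (congrArg (· ≫ (cx s).d n (n + 1))
      (Subobject.ofLE_arrow _))).trans ?_
    refine Eq.trans ((incl s i').comm n (n + 1)) ?_
    refine Eq.trans ?_ (Category.assoc _ _ _).symm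
    exact congrArg ((sub s i').d n (n + 1) ≫ ·) (Subobject.ofLE_arrow _).symm

/-- The filtration by subcomplexes. -/
def Gsub (i : ℤ) : Subobject (cx s) := Subobject.mk (incl s i)

theorem antitone_Gsub : Antitone (Gsub s) := fun i i' h =>
  Subobject.mk_le_mk_of_comm (subLE s h) (HomologicalComplex.hom_ext _ _ fun n => Subobject.ofLE_arrow _)

theorem Gsub_eq_top {i : ℤ} (h : s.F i = ⊤) : Gsub s i = ⊤ := by
  haveI : ∀ n, IsIso ((incl s i).f n) := fun n =>
    (Subobject.isIso_arrow_iff_eq_top _).2 (G_eq_top _ (st_eq_top s h n))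
  haveI : IsIso (incl s i) := HomologicalComplex.Hom.isIso_of_components (incl s i)
  exact (Subobject.isIso_iff_mk_eq_top _).1 inferInstance

theorem Gsub_eq_bot {i : ℤ} (h : s.F i = ⊥) : Gsub s i = ⊥ :=
  Subobject.mk_eq_bot_iff_zero.2 (HomologicalComplex.hom_ext _ _ fun n => by
    show (G (st s n) i).arrow = 0
    rw [G_eq_bot _ (st_eq_bot s h n), Subobject.bot_arrow])

theorem injective_Gsub (i : ℤ) (n : ℕ) : Injective ((Gsub s i : CochainComplex C ℕ).X n) :=
  Injective.of_iso ((HomologicalComplex.eval C _ n).mapIso (Subobject.underlyingIso (incl s i))).symm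
    (injective_G (st s n) i)

theorem exists_ι (i : ℤ) : ∃ ι : (CochainComplex.single₀ C).obj (s.F i : C) ⟶ (Gsub s i : CochainComplex C ℕ),
    ι ≫ (Gsub s i).arrow = (CochainComplex.single₀ C).map (s.F i).arrow ≫ cxι s ∧ QuasiIso ι := by
  let j : (CochainComplex.single₀ C).obj (s.F i : C) ⟶ sub s i :=
    spliceι (Z := fun n => ((st s n).F i : C)) (I := fun n => (G (st s n) i : C)) (fun n => u (st s n) i)
      (fun n => v (st s n) i) (fun n => u_v (st s n) i)
  haveI : QuasiIso j := quasiIso_spliceι _ _ _ fun n => shortExact_u_v (st s n) i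
  refine ⟨j ≫ (Subobject.underlyingIso (incl s i)).inv, ?_, quasiIso_comp _ _⟩
  refine ((Category.assoc _ _ _).trans (congrArg (j ≫ ·) (Subobject.underlyingIso_arrow _))).trans ?_
  refine HomologicalComplex.from_single_hom_ext ?_
  refine (congrArg (· ≫ (incl s i).f 0) (spliceι_f_zero (Z := fun n => ((st s n).F i : C))
    (I := fun n => (G (st s n) i : C)) (fun n => u (st s n) i)
      (fun n => v (st s n) i) (fun n => u_v (st s n) i))).trans ?_
  refine (u_arrow (st s 0) i).trans ?_
  exact (congrArg₂ (· ≫ ·) (CochainComplex.single₀_map_f_zero _) (spliceι_f_zero (Z := fun n => (st s n).Z)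
    (I := fun n => I (st s n)) (fun n => φ (st s n)) (fun n => cokernel.π (φ (st s n)))
    (fun _ => cokernel.condition _))).symm

end Groth.Agent.FilResLib
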