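import Mathlib

/-!
# Complexes spliced from short exact sequences
-/

set_option autoImplicit false
set_option backward.isDefEq.respectTransparency false

universe v u

open CategoryTheory CategoryTheory.Limits

noncomputable section

namespace Groth.Agent.FilResLib

variable {C : Type u} [Category.{v} C] [Abelian C] {Z I : ℕ → C} (f : ∀ n, Z n ⟶ I n)
  (g : ∀ n, I n ⟶ Z (n + 1)) (w : ∀ n, f n ≫ g n = 0)

/-- The spliced complex. -/
def splice : CochainComplex C ℕ :=
  CochainComplex.of I (fun n => g n ≫ f (n + 1)) fun n => by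
    rw [Category.assoc, ← Category.assoc (f (n + 1)), w, zero_comp, comp_zero]

theorem splice_d (n : ℕ) : (splice f g w).d n (n + 1) = g n ≫ f (n + 1) :=
  CochainComplex.of_d I (fun n => g n ≫ f (n + 1)) n

/-- The augmentation. -/
def spliceι : (CochainComplex.single₀ C).obj (Z 0) ⟶ splice f g w :=
  (CochainComplex.fromSingle₀Equiv _ _).symm ⟨f 0, by
    rw [splice_d f g w 0]
    show f 0 ≫ g 0 ≫ f 1 = 0
    rw [← Category.assoc, w, zero_comp]⟩

theorem spliceι_f_zero : (spliceι f g w).f 0 = f 0 := by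
  simp [spliceι, CochainComplex.fromSingle₀Equiv]

variable (hS : ∀ n, (ShortComplex.mk (f n) (g n) (w n)).ShortExact)

include hS in
theorem splice_exact (n : ℕ) :
    (ShortComplex.mk ((splice f g w).d n (n + 1)) ((splice f g w).d (n + 1) (n + 2))
      ((splice f g w).d_comp_d _ _ _)).Exact := by
  rw [ShortComplex.exact_iff_exact_up_to_refinements]
  intro A x hx
  haveI : Mono (f (n + 2)) := (hS (n + 2)).mono_f
  haveI : Mono (ShortComplex.mk (f (n + 1)) (g (n + 1)) (w (n + 1))).f := (hS (n + 1)).mono_f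
  haveI : Epi (g n) := (hS n).epi_g
  change x ≫ (splice f g w).d (n + 1) (n + 2) = 0 at hx
  replace hx : x ≫ g (n + 1) ≫ f (n + 2) = 0 := (congrArg (x ≫ ·) (splice_d f g w (n + 1))).symm.trans hx
  have h0 : x ≫ g (n + 1) = 0 := (cancel_mono (f (n + 2))).1 ((Category.assoc _ _ _).trans (hx.trans zero_comp.symm))
  obtain ⟨y, hy⟩ : ∃ y : A ⟶ Z (n + 1), y ≫ f (n + 1) = x := ⟨_, (hS (n + 1)).exact.lift_f x h0⟩
  obtain ⟨A', e, he, z, hz⟩ := surjective_up_to_refinements_of_epi (g n) y
  refine ⟨A', e, he, z, ?_⟩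
  refine Eq.trans ?_ (congrArg (z ≫ ·) (splice_d f g w n)).symm
  rw [← hy, ← Category.assoc, hz]
  exact Category.assoc _ _ _

include hS in
theorem quasiIso_spliceι : QuasiIso (spliceι f g w) := by
  refine ⟨fun n => ?_⟩
  cases n with
  | zero =>
    rw [CochainComplex.quasiIsoAt₀_iff, ShortComplex.quasiIso_iff_of_zeros]
    · haveI : Mono (f 0) := (hS 0).mono_f
      refine (ShortComplex.exact_and_mono_f_iff_of_iso (S₂ := ShortComplex.mk (f 0) (g 0 ≫ f 1)
        (by rw [← Category.assoc, w, zero_comp])) ?_).2 ⟨?_, by dsimp; infer_instance⟩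
      · exact ShortComplex.isoMk (Iso.refl _) (Iso.refl _) (Iso.refl _) (by simp [spliceι_f_zero])
          (by simp [splice_d f g w 0])
      · rw [ShortComplex.exact_iff_exact_up_to_refinements]
        intro A x hx
        haveI : Mono (f 1) := (hS 1).mono_f
        haveI : Mono (ShortComplex.mk (f 0) (g 0) (w 0)).f := (hS 0).mono_f
        have h0 : x ≫ g 0 = 0 := (cancel_mono (f 1)).1 ((Category.assoc _ _ _).trans (hx.trans zero_comp.symm))
        exact ⟨A, 𝟙 A, inferInstance, _, (Category.id_comp x).trans ((hS 0).exact.lift_f x h0).symm⟩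
    all_goals rfl
  | succ n =>
    rw [quasiIsoAt_iff_exactAt]
    · rw [HomologicalComplex.exactAt_iff' _ n (n + 1) (n + 1 + 1) (by simp) (by simp)]
      exact splice_exact f g w hS n
    · exact CochainComplex.exactAt_succ_single_obj _ _

end Groth.Agent.FilResLib
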